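import Cfsg.Agent.H700.PwB.Large

/-!
# Two fixed classes in `C(z)`, `Q = O₂(C(z))` extraspecial (S4173, helper903)

* `CC r g` : `g = a * (c * a⁻¹ * c⁻¹)` with `a` of order `r` (a commutator with an element of order `r`);
* `cc_out`, `cc_in`, `cc_cent` : as `pp_out`, `pp_in`, `pp_cent` of helper700;
* `CC.fixed` : if all elements of order `r` are conjugate to `x` or `x⁻¹`: `g = (u * x * u⁻¹) * (v * x⁻¹ * v⁻¹)`.
-/

set_option autoImplicit false

namespace Cfsg.Agent.H903.TC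

open Cfsg.Agent.Co2Type.Quad (Large)
open Cfsg.Agent.H6.ORE Cfsg.Agent.H903.Ore.Large Cfsg.Agent.H323.Pw Cfsg.Agent.H843.Ore Cfsg.Agent.H700.PwB

universe u v

/-- a commutator with an element of order `r` -/
def CC {G : Type*} [Group G] (r : ℕ) (g : G) : Prop := ∃ a c : G, orderOf a = r ∧ g = a * (c * a⁻¹ * c⁻¹)

section

variable {G : Type u} [Group G] {H : Type v} [Group H]

theorem CC.map {r : ℕ} {g : G} (h : CC r g) (f : G ≃* H) : CC r (f g) := by
  obtain ⟨a, c, ha, e⟩ := h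
  exact ⟨f a, f c, by rw [MulEquiv.orderOf_eq, ha], by rw [e]; simp only [map_mul, map_inv]⟩

theorem CC.conj {r : ℕ} {g : G} (h : CC r g) (x : G) : CC r (x * g * x⁻¹) := h.map (MulAut.conj x)

theorem CC.of_conj {r : ℕ} {g x : G} (h : CC r (x * g * x⁻¹)) : CC r g := by
  have h1 := h.conj x⁻¹
  rwa [show x⁻¹ * (x * g * x⁻¹) * x⁻¹⁻¹ = g by group] at h1

theorem CC.inv {r : ℕ} {g : G} (h : CC r g) : CC r g⁻¹ := by
  obtain ⟨a, c, ha, e⟩ := h
  refine ⟨c * a * c⁻¹, c⁻¹, ?_, by rw [e]; group⟩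
  rw [show c * a * c⁻¹ = MulAut.conj c a from rfl, MulEquiv.orderOf_eq, ha]

/-- in a subgroup -/
theorem CC.of_sub {K : Subgroup G} {r : ℕ} {g : K} (h : CC r g) : CC r (g : G) := by
  obtain ⟨a, c, ha, e⟩ := h
  exact ⟨a, c, by rw [Subgroup.orderOf_coe, ha], by rw [e]; rfl⟩

theorem CC.pp {r : ℕ} {g : G} (h : CC r g) : PP r g := by
  obtain ⟨a, c, ha, e⟩ := h
  refine ⟨a, _, e, ha, ?_⟩
  rw [show c * a⁻¹ * c⁻¹ = MulAut.conj c a⁻¹ from rfl, MulEquiv.orderOf_eq, orderOf_inv, ha]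

/-- **Fixed classes.** -/
theorem CC.fixed {r : ℕ} {g x : G} (h : CC r g) (hx : ∀ a : G, orderOf a = r → IsConj x a ∨ IsConj x⁻¹ a) :
    ∃ u v : G, g = (u * x * u⁻¹) * (v * x⁻¹ * v⁻¹) := by
  obtain ⟨a, c, ha, e⟩ := h
  rcases hx a ha with h1 | h1
  · obtain ⟨u, rfl⟩ := isConj_iff.1 h1
    exact ⟨u, c * u, by rw [e]; group⟩
  · obtain ⟨u, rfl⟩ := isConj_iff.1 h1
    exact ⟨u * x⁻¹ * u⁻¹ * c * u, u, by rw [e]; group⟩

end

variable {K : Type u} [Group K] {Q : Subgroup K} {z : K} {L : Type v} [Group L] {π : CZ z →* L}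

/-- **Elements outside `Q`.** -/
theorem cc_out [Finite Q] (h : Large Q z) (hs : Function.Surjective π) (hk : ∀ c, π c = 1 ↔ (c : K) ∈ Q)
    {r n : ℕ} (hr : r.Prime) (hodd : Odd r) (hcard : Nat.card Q = 2 ^ (n + 1)) (har : Ar r n) {g : CZ z}
    (hg : π g ≠ 1) (hp : CC r (π g)) : CC r g := by
  obtain ⟨a₀, c₀, ha, e⟩ := hp
  have hE := es_of_large h
  have hfin : Finite (Q.subgroupOf (CZ z)) := finQ
  obtain ⟨a, rfl, hoa⟩ := lift_order h hs hk hr hodd ha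
  obtain ⟨c, rfl⟩ := hs c₀
  obtain ⟨b, hb⟩ : ∃ b, b = c * a⁻¹ * c⁻¹ := ⟨_, rfl⟩
  have e1 : π g = π a * π b := by rw [e, hb, map_mul, map_mul, map_inv, map_inv]
  have hob : orderOf (π b) = r := by
    rw [hb, map_mul, map_mul, map_inv, map_inv,
      show π c * (π a)⁻¹ * (π c)⁻¹ = MulAut.conj (π c) (π a)⁻¹ from rfl, MulEquiv.orderOf_eq, orderOf_inv, ha]
  have hx : (a * b)⁻¹ * g ∈ Q.subgroupOf (CZ z) := by
    show (((a * b)⁻¹ * g : CZ z) : K) ∈ Q
    rw [← hk, map_mul, map_inv, map_mul, e1, inv_mul_cancel]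
  obtain ⟨u, -, w, -, e'⟩ := ES.prod_step_fpf hE (nofix h hk hr hodd hcard har ha) (nofix h hk hr hodd hcard har hob) (by
    by_contra hno
    push Not at hno
    apply hg
    rw [e1, ← map_mul, hk]
    apply Cfsg.Agent.KFacts.LargeO2.mem_of_triv h (Subgroup.mem_centralizer_singleton_iff.1 (a * b).2)
    intro y hy
    have hyC : y ∈ CZ z := Subgroup.mem_centralizer_singleton_iff.2 (h.comm_z y hy)
    exact (hno ⟨y, hyC⟩ hy).imp (congrArg Subtype.val) (congrArg Subtype.val)) hx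
  rw [mul_inv_cancel_left] at e'
  refine ⟨u * a * u⁻¹, w * c * u⁻¹, ?_, ?_⟩
  · rw [show u * a * u⁻¹ = MulAut.conj u a from rfl, MulEquiv.orderOf_eq]; exact hoa
  · rw [← e', hb]
    group

/-- the noncentral elements of an extraspecial group, and 1 -/
theorem cc_mem {H : Type*} [Group H] {Q : Subgroup H} {z : H} (h : ES Q z) [Finite Q] {r : ℕ} {a : H}
    (hord : orderOf a = r)
    (hfix : ∀ x ∈ Q, (a * x * a⁻¹ = x ∨ a * x * a⁻¹ = x * z) → x = 1 ∨ x = z)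
    {q : H} (hq : q ∈ Q) (hne : q ≠ z) : CC r q := by
  by_cases hq1 : q = 1
  · rw [hq1]; exact ⟨a, 1, hord, by group⟩
  have hn := h.normal
  have hzn := h.normal_zpowers
  obtain ⟨u, hu, w, hw, e⟩ := step (a := a) (b := a⁻¹) (fpz_cov h (FPz.of_left h a⁻¹ hfix)) hq
  have key : CC r (u * a * u⁻¹ * (w * a⁻¹ * w⁻¹)) := by
    refine ⟨u * a * u⁻¹, w * u⁻¹, ?_, by group⟩
    rw [show u * a * u⁻¹ = MulAut.conj u a from rfl, MulEquiv.orderOf_eq]; exact hord
  rw [mul_inv_cancel, one_mul, h.mem_zpowers] at e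
  rcases e with e | e
  · rwa [inv_mul_eq_one.1 e] at key
  · have e0 : q = u * a * u⁻¹ * (w * a⁻¹ * w⁻¹) * z := by rw [← e]; group
    have : ∃ y ∈ Q, ¬ (q * y = y * q) := by
      by_contra hno
      push Not at hno
      rcases h.nd q hq hno with h1 | h1
      · exact hq1 h1
      · exact hne h1
    obtain ⟨y, hy, hyq⟩ := this
    have e2 : q * y = y * q * z := (h.comm q hq y hy).resolve_left hyq
    refine CC.of_conj (x := y) ?_
    have e3 : y * q * y⁻¹ = q * z := by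
      have e4 : y * q = q * y * z := by rw [e2, mul_assoc (y * q), h.sq, mul_one]
      rw [e4, mul_assoc q, h.central, mul_assoc, mul_assoc, mul_inv_cancel, mul_one]
    rw [e3, e0, mul_assoc, h.sq, mul_one]
    exact key

/-- **Elements of `Q`.** -/
theorem cc_in [Finite Q] (h : Large Q z) (hs : Function.Surjective π) (hk : ∀ c, π c = 1 ↔ (c : K) ∈ Q)
    {r n : ℕ} (hr : r.Prime) (hodd : Odd r) (hcard : Nat.card Q = 2 ^ (n + 1)) (har : Ar r n)
    {y : L} (hyr : orderOf y = r) {q : K} (hq : q ∈ Q) (hqz : q ≠ z) : CC r q := by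
  have hE := es_of_large h
  have hfin : Finite (Q.subgroupOf (CZ z)) := finQ
  obtain ⟨a, rfl, hoa⟩ := lift_order h hs hk hr hodd hyr
  have hqC : q ∈ CZ z := Subgroup.mem_centralizer_singleton_iff.2 (h.comm_z q hq)
  exact (cc_mem hE hoa (nofix h hk hr hodd hcard har hyr) (q := ⟨q, hqC⟩) hq
    (fun e => hqz (congrArg Subtype.val e))).of_sub

/-- **All elements of `C(z)`.** -/
theorem cc_cent [Finite Q] (h : Large Q z) (hs : Function.Surjective π) (hk : ∀ c, π c = 1 ↔ (c : K) ∈ Q)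
    {r n : ℕ} (hr : r.Prime) (hodd : Odd r) (hcard : Nat.card Q = 2 ^ (n + 1)) (har : Ar r n)
    (hy : ∃ y : L, orderOf y = r) (hz : ∃ x : K, x * z * x⁻¹ ∈ Q ∧ x * z * x⁻¹ ≠ z) (g : CZ z)
    (hO : π g ≠ 1 → CC r (π g)) : CC r (g : K) := by
  by_cases h1 : π g = 1
  · obtain ⟨y, hy⟩ := hy
    by_cases hgz : (g : K) = z
    · obtain ⟨x, hx, hxz⟩ := hz
      rw [hgz]
      exact (cc_in h hs hk hr hodd hcard har hy hx hxz).of_conj
    · exact cc_in h hs hk hr hodd hcard har hy ((hk g).1 h1) hgz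
  · exact (cc_out h hs hk hr hodd hcard har h1 (hO h1)).of_sub

end Cfsg.Agent.H903.TC
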