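import Mathlib

/-!
# Elements of prime order `r`, `r ∥ |G|`: two classes (S4173, helper903)

* `card_norm` : `|N(⟨x⟩)| = c * m` from `|C(x)| = c` and Sylow's congruence;
* `two_classes` : every element of order `r` is conjugate to `x` or to `x⁻¹`, if `m` is a prime not dividing `c` and
  the elements of order `m` modulo `r`, with `-1`, generate everything (decidable).
-/

set_option autoImplicit false
set_option linter.unusedSectionVars false

namespace Cfsg.Agent.H903.TC.Cls

open Subgroup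

variable {G : Type*} [Group G] [Finite G]

/-- the Sylow subgroup generated by `x` -/
theorem exists_syl {r N : ℕ} (hr : r.Prime) (hN : Nat.card G = N) (hsq : ¬ r ^ 2 ∣ N) {x : G} (hx : orderOf x = r) :
    haveI := Fact.mk hr
    ∃ P : Sylow r G, (P : Subgroup G) = zpowers x := by
  have := Fact.mk hr
  have hpg : IsPGroup r (zpowers x) := IsPGroup.of_card (n := 1) (by rw [Nat.card_zpowers, hx, pow_one])
  have hidx : ¬ r ∣ (zpowers x).index := by
    intro h
    apply hsq
    rw [← hN, ← (zpowers x).card_mul_index, Nat.card_zpowers, hx, pow_two]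
    exact Nat.mul_dvd_mul_left r h
  exact ⟨hpg.toSylow hidx, rfl⟩

theorem isConj_pow {r N : ℕ} (hr : r.Prime) (hN : Nat.card G = N) (hsq : ¬ r ^ 2 ∣ N) {x a : G} (hx : orderOf x = r)
    (ha : orderOf a = r) : ∃ k : ℕ, 0 < k ∧ k < r ∧ IsConj (x ^ k) a := by
  have := Fact.mk hr
  obtain ⟨P, hP⟩ := exists_syl hr hN hsq hx
  obtain ⟨P', hP'⟩ := exists_syl hr hN hsq ha
  obtain ⟨g, hg⟩ := MulAction.exists_smul_eq G P P'
  have h1 : (P' : Subgroup G) = (P : Subgroup G).map (MulAut.conj g).toMonoidHom := by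
    rw [← hg]
    rfl
  rw [hP, hP'] at h1
  have h2 : a ∈ (zpowers x).map (MulAut.conj g).toMonoidHom := by
    rw [← h1]
    exact mem_zpowers a
  obtain ⟨y, hy, hya⟩ := h2
  have hy' : y ∈ Submonoid.powers x := (isOfFinOrder_of_finite x).mem_powers_iff_mem_zpowers.2 hy
  obtain ⟨k, rfl⟩ := hy'
  refine ⟨k % r, ?_, Nat.mod_lt _ hr.pos, ?_⟩
  · rcases Nat.eq_zero_or_pos (k % r) with h | h
    · exfalso
      have h3 : x ^ k = 1 := by rw [← orderOf_dvd_iff_pow_eq_one, hx]; exact Nat.dvd_of_mod_eq_zero h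
      have h4 : a = 1 := by
        rw [← hya]
        show (MulAut.conj g).toMonoidHom (x ^ k) = 1
        rw [h3, map_one]
      rw [h4, orderOf_one] at ha
      exact hr.one_lt.ne ha
    · exact h
  · rw [← hx, pow_mod_orderOf]
    exact isConj_iff.2 ⟨g, hya⟩

/-- the order of the normaliser -/
theorem card_norm {r N c m : ℕ} (hr : r.Prime) (hN : Nat.card G = N) (hsq : ¬ r ^ 2 ∣ N) {x : G} (hx : orderOf x = r)
    (hc : Nat.card (centralizer ({x} : Set G)) = c)
    (hnum : ∀ e < r, 0 < e → c * e ∣ N → N / (c * e) % r = 1 → e = m) :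
    Nat.card (normalizer (zpowers x : Set G)) = c * m := by
  have := Fact.mk hr
  obtain ⟨P, hP⟩ := exists_syl hr hN hsq hx
  have hcent : centralizer (zpowers x : Set G) = centralizer ({x} : Set G) := by
    rw [zpowers_eq_closure, centralizer_closure]
  have hCM : centralizer (zpowers x : Set G) ≤ normalizer (zpowers x : Set G) := centralizer_le_normalizer _
  obtain ⟨e, he⟩ : ∃ e, e = ((centralizer (zpowers x : Set G)).subgroupOf (normalizer (zpowers x : Set G))).index :=
    ⟨_, rfl⟩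
  have hcard : Nat.card (normalizer (zpowers x : Set G)) = c * e := by
    have h1 := ((centralizer (zpowers x : Set G)).subgroupOf (normalizer (zpowers x : Set G))).card_mul_index
    rw [← he, Nat.card_congr (subgroupOfEquivOfLe hCM).toEquiv, hcent, hc] at h1
    exact h1.symm
  have he1 : e ∣ r - 1 := by
    have h1 : e = Nat.card (zpowers x).normalizerMonoidHom.range := by
      rw [he, ← normalizerMonoidHom_ker, index_ker]
    rw [h1]
    refine (card_subgroup_dvd_card _).trans ?_
    rw [IsCyclic.card_mulAut, Nat.card_zpowers, hx, Nat.totient_prime hr]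
  have hepos : 0 < e := Nat.pos_of_dvd_of_pos he1 (Nat.sub_pos_of_lt hr.one_lt)
  have helt : e < r := lt_of_le_of_lt (Nat.le_of_dvd (Nat.sub_pos_of_lt hr.one_lt) he1) (Nat.sub_lt hr.pos one_pos)
  have h2 : c * e ∣ N := by rw [← hcard, ← hN]; exact card_subgroup_dvd_card _
  have h3 : N / (c * e) % r = 1 := by
    have h4 := P.card_eq_index_normalizer
    have h5 := card_sylow_modEq_one r G
    have hPs : ((P : Sylow r G) : Set G) = (zpowers x : Set G) := by rw [← hP]; rfl
    rw [h4, hPs] at h5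
    have h6 := (normalizer (zpowers x : Set G)).card_mul_index
    rw [hcard, hN] at h6
    have h7 : N / (c * e) = (normalizer (zpowers x : Set G)).index := by
      rw [← h6]
      exact Nat.mul_div_cancel_left _ (Nat.pos_of_ne_zero (by
        intro h0
        rw [h0] at hcard
        exact (Nat.card_pos (α := normalizer (zpowers x : Set G))).ne' hcard))
    rw [h7]
    have h8 : (normalizer (zpowers x : Set G)).index % r = 1 % r := h5
    rw [h8, Nat.mod_eq_of_lt hr.one_lt]
  rw [hcard, hnum e helt hepos h2 h3]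

/-- the check of the hypothesis `hj` of `two_classes` -/
def chkJ (r m : ℕ) : Bool := (List.range r).all fun j => j == 1 || j ^ m % r != 1 ||
  (List.range r).all fun k => k == 0 || (List.range m).any fun i => j ^ i % r == k || (j ^ i + k) % r == 0

theorem hj_of {r m : ℕ} (h : chkJ r m = true) :
    ∀ j < r, j ≠ 1 → j ^ m % r = 1 → ∀ k < r, 0 < k → ∃ i < m, j ^ i % r = k ∨ (j ^ i + k) % r = 0 := by
  intro j hj h1 h2 k hk h0
  unfold chkJ at h
  rw [List.all_eq_true] at h
  have h3 := h j (List.mem_range.2 hj)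
  simp only [Bool.or_eq_true, beq_iff_eq, h1, false_or, bne_iff_ne, ne_eq, h2, not_true_eq_false] at h3
  rw [List.all_eq_true] at h3
  have h4 := h3 k (List.mem_range.2 hk)
  rw [Bool.or_eq_true, beq_iff_eq] at h4
  rcases h4 with h4 | h4
  · omega
  rw [List.any_eq_true] at h4
  obtain ⟨i, hi, h5⟩ := h4
  simp only [Bool.or_eq_true, beq_iff_eq] at h5
  exact ⟨i, List.mem_range.1 hi, h5⟩

/-- **Two classes.** -/
theorem two_classes {r N c m : ℕ} (hr : r.Prime) (hm : m.Prime) (hN : Nat.card G = N) (hsq : ¬ r ^ 2 ∣ N) {x : G}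
    (hx : orderOf x = r) (hc : Nat.card (centralizer ({x} : Set G)) = c) (hmc : ¬ m ∣ c)
    (hnum : ∀ e < r, 0 < e → c * e ∣ N → N / (c * e) % r = 1 → e = m)
    (hj : ∀ j < r, j ≠ 1 → j ^ m % r = 1 → ∀ k < r, 0 < k → ∃ i < m, j ^ i % r = k ∨ (j ^ i + k) % r = 0) {a : G}
    (ha : orderOf a = r) : IsConj x a ∨ IsConj x⁻¹ a := by
  have := Fact.mk hm
  have hcard := card_norm hr hN hsq hx hc hnum
  obtain ⟨n, hn⟩ := exists_prime_orderOf_dvd_card' (G := normalizer (zpowers x : Set G)) m (by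
    rw [hcard]; exact dvd_mul_left _ _)
  have hn' : orderOf (n : G) = m := by rw [orderOf_coe, hn]
  -- the action of `n`
  have h1 : (n : G) * x * (n : G)⁻¹ ∈ zpowers x := by
    have h2 := (mem_normalizer_iff.1 n.2 x).1 (mem_zpowers x)
    exact h2
  obtain ⟨j', hj'⟩ := (isOfFinOrder_of_finite x).mem_powers_iff_mem_zpowers.2 h1
  obtain ⟨j, hjdef⟩ : ∃ j, j = j' % r := ⟨_, rfl⟩
  have hjr : j < r := by rw [hjdef]; exact Nat.mod_lt _ hr.pos
  have hxj : (n : G) * x * (n : G)⁻¹ = x ^ j := by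
    rw [hjdef, ← hx, pow_mod_orderOf]
    exact hj'.symm
  have hpow : ∀ i : ℕ, (n : G) ^ i * x * ((n : G) ^ i)⁻¹ = x ^ (j ^ i) := by
    intro i
    induction i with
    | zero => simp
    | succ i ih =>
      have e : (n : G) ^ (i + 1) * x * ((n : G) ^ (i + 1))⁻¹ = n * ((n : G) ^ i * x * ((n : G) ^ i)⁻¹) * (n : G)⁻¹ := by
        rw [pow_succ']; group
      rw [e, ih]
      have e2 : (n : G) * x ^ (j ^ i) * (n : G)⁻¹ = ((n : G) * x * (n : G)⁻¹) ^ (j ^ i) := by
        rw [conj_pow]
      rw [e2, hxj, ← pow_mul, pow_succ']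
  have hjm : j ^ m % r = 1 := by
    have h3 := hpow m
    rw [← hn', pow_orderOf_eq_one, hn'] at h3
    have h4 : x ^ (j ^ m) = x ^ 1 := by rw [← h3]; simp
    rw [pow_inj_mod, hx] at h4
    rw [h4, Nat.mod_eq_of_lt hr.one_lt]
  have hj1 : j ≠ 1 := by
    rintro rfl
    rw [pow_one] at hxj
    have h3 : (n : G) ∈ centralizer ({x} : Set G) := by
      rw [mem_centralizer_singleton_iff]
      calc (n : G) * x = (n : G) * x * (n : G)⁻¹ * n := by group
        _ = x * n := by rw [hxj]
    apply hmc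
    rw [← hc, ← hn', ← orderOf_mk (n : G) h3]
    exact orderOf_dvd_natCard _
  obtain ⟨k, hk0, hkr, hk⟩ := isConj_pow hr hN hsq hx ha
  obtain ⟨i, -, hi⟩ := hj j hjr hj1 hjm k hkr hk0
  have hconj : IsConj x (x ^ (j ^ i)) := isConj_iff.2 ⟨_, hpow i⟩
  rcases hi with hi | hi
  · left
    refine hconj.trans ?_
    have h3 : x ^ (j ^ i) = x ^ k := by
      rw [pow_inj_mod, hx, hi, Nat.mod_eq_of_lt hkr]
    rw [h3]
    exact hk
  · right
    have h3 : (x ^ (j ^ i))⁻¹ = x ^ k := by
      rw [inv_eq_iff_mul_eq_one, ← pow_add, ← orderOf_dvd_iff_pow_eq_one, hx]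
      exact Nat.dvd_of_mod_eq_zero hi
    have h4 : IsConj x⁻¹ (x ^ (j ^ i))⁻¹ := by
      obtain ⟨g, hg⟩ := isConj_iff.1 hconj
      refine isConj_iff.2 ⟨g, ?_⟩
      rw [← hg]; group
    refine h4.trans ?_
    rw [h3]
    exact hk

end Cfsg.Agent.H903.TC.Cls
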