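import Cfsg.Agent.H903.TC.Baby
import Cfsg.Agent.H903.TC.Cls
import Cfsg.Agent.H570.Ore.Cent

/-!
# The Baby Monster: the two classes of elements of order 23 (S4173, helper903)

* `two_cls` : every element of order 23 is conjugate to `x` or `x⁻¹` (`SThree` = Feit-Thompson, see H570/Ore/RowB);
* `fixed_B` : `CC 23 g` gives `g = (u * x * u⁻¹) * (v * x⁻¹ * v⁻¹)` for every `x` of order 23;
* `cent_fixed` : every element commuting with a 2B involution is of this form.
-/

set_option autoImplicit false

namespace Cfsg.Agent.H903.TC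

open Cfsg Subgroup

universe u

variable {L : Type u} [Group L]

theorem two_cls [IsSimpleGroup L] (h3 : Cfsg.Agent.H715.Mon.Grp.SThree.{0}) (h : Spor.IsoB L) {x : L}
    (hx : orderOf x = 23) {a : L} (ha : orderOf a = 23) : IsConj x a ∨ IsConj x⁻¹ a := by
  have hN : Nat.card L = 4154781481226426191177580544000000 := NotCT.Orders.b h
  have : Finite L := Nat.finite_of_card_ne_zero (by rw [hN]; norm_num)
  refine Cls.two_classes (r := 23) (m := 11) (c := 46) (by norm_num) (by norm_num) hN (by norm_num) hx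
    (Cfsg.Agent.H570.Ore.Cent.c23 h3 h hx) (by norm_num) ?_ ?_ ha
  · decide +kernel
  · exact Cls.hj_of (by decide +kernel)

theorem fixed_B [IsSimpleGroup L] (h3 : Cfsg.Agent.H715.Mon.Grp.SThree.{0}) (h : Spor.IsoB L) {x : L}
    (hx : orderOf x = 23) {g : L} (hg : CC 23 g) : ∃ u v : L, g = (u * x * u⁻¹) * (v * x⁻¹ * v⁻¹) :=
  hg.fixed fun _ ha => two_cls h3 h hx ha

end Cfsg.Agent.H903.TC
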